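import Groth.Agent.QfNhdLib.Core
import Groth.Agent.S2080
import Groth.Agent.S2081
import Groth.Agent.AlgSpLib.CodimZero

/-!
# Finiteness over a neighbourhood of the generic point of an irreducible affine scheme
-/

set_option autoImplicit false
set_option backward.isDefEq.respectTransparency false
set_option backward.isDefEq.respectTransparency.types false
universe u

open CategoryTheory CategoryTheory.Limits AlgebraicGeometry Topology
open AlgSp

namespace QfNhdLib

open AlgSpLib

variable {S : Scheme.{u}}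

theorem finite_preimage_of_isOpen_singleton {A B : Scheme.{u}} (h : A ⟶ B) [QuasiCompact h] (v : B)
    (H : ∀ w, h.base w = v → IsOpen ({h.asFiber w} : Set (h.fiber (h.base w)))) : (h.base ⁻¹' {v}).Finite := by
  haveI : CompactSpace (h.fiber v) := QuasiCompact.compactSpace_of_compactSpace (h.fiberToSpecResidueField v)
  haveI : DiscreteTopology (h.fiber v) := discreteTopology_iff_forall_isOpen.2 fun s => by
    rw [← Set.biUnion_of_singleton s]
    refine isOpen_biUnion fun z _ => ?_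
    have key : ∀ (w : A) (hw : h.base w = v) (z : h.fiber v), (h.fiberι v).base z = w → IsOpen ({z} : Set (h.fiber v)) := by
      intro w hw
      have h1 := H w hw
      subst hw
      intro z hz
      rwa [show h.asFiber w = z from (h.fiberι _).isEmbedding.injective (by rw [h.fiberι_asFiber]; exact hz.symm)] at h1
    refine key _ ?_ z rfl
    have : (h.fiberι v).base z ∈ Set.range (h.fiberι v).base := ⟨z, rfl⟩
    rwa [h.range_fiberι] at this
  haveI : Finite (h.fiber v) := finite_of_compact_of_discrete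
  rw [← h.range_fiberι v]
  exact Set.finite_range _

theorem restrict_le {A B : Scheme.{u}} (h : A ⟶ B) {U U' : B.Opens} (hle : U ≤ U') (hf : IsFinite (h ∣_ U')) :
    IsFinite (h ∣_ U) := EtLocLib.restrict_of_le h @IsFinite hle hf

theorem isFinite_of_square {A B O : Scheme.{u}} {h : A ⟶ B} {U : B.Opens} (hU : IsFinite (h ∣_ U))
    {fst : O ⟶ A} {snd : O ⟶ (U : Scheme.{u})} (sq : IsPullback fst snd h U.ι) : IsFinite snd := by
  haveI := hU
  rw [← sq.isoIsPullback_hom_snd _ _ (isPullback_morphismRestrict h U).flip]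
  infer_instance

theorem map_ofPt_yon {X : Sp S} {T E : Over S} {g : X ⟶ (yon S).obj T} {p : (yon S).obj E ⟶ X}
    {e : E ⟶ T} (he : p ≫ g = (yon S).map e) (w : E.left) :
    Points.map g (Points.ofPt p w) = Points.schemeHomeo T (e.left w) := by
  rw [Points.map_ofPt, he, ← Points.map_yon_map_apply]
  exact (congrFun (ofPt_comp_ofScheme ((yon S).map e)) w).symm

/-- An affine chart meeting every point of codimension zero, all of them if `g` is quasi-compact. -/
theorem exists_chart_codimZero {X : Sp S} (hX : IsAlgSpace X) {T : Over S} [IsAffine T.left]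
    {g : X ⟶ (yon S).obj T}
    (hX0 : {x : Points X | HasAt (fun U u => ringKrullDim ↥(U.presheaf.stalk u) = 0) X x}.Finite)
    (hqs : IsQuasiCompactMor g ∨ IsSeparatedMor g) :
    ∃ (E : Over S) (p : (yon S).obj E ⟶ X), IsAffine E.left ∧ RepWith @Etale p ∧
      (∀ x, HasAt (fun U u => ringKrullDim ↥(U.presheaf.stalk u) = 0) X x → x ∈ Set.range (Points.ofPt p)) ∧
      (RepWith @Surjective p ∨ IsSeparatedMor g) := by
  rcases hqs with hqc | hsep
  · obtain ⟨E, p, hE, hp, hps⟩ := exists_affine_chart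
      (hqc (IsAlgSpace.yon_obj T) (isQuasiCompactSp_yon T) (𝟙 _) (𝟙 X) g (IsPullback.of_horiz_isIso ⟨by simp⟩))
    exact ⟨E, p, hE, hp, fun x _ => surjective_ofPt hps x, Or.inl hps⟩
  · obtain ⟨U, a, ha, has⟩ := hX.atlas
    let F₀ := {x : Points X // HasAt (fun U u => ringKrullDim ↥(U.presheaf.stalk u) = 0) X x}
    haveI : Finite F₀ := hX0.to_subtype
    obtain ⟨n, ⟨φ⟩⟩ := Finite.exists_equiv_fin F₀
    let F : Type u := ULift.{u} (Fin n)
    choose u hu using fun x : F => surjective_ofPt has (φ.symm x.down).1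
    choose O hO huO _ using fun x : F => exists_isAffineOpen_mem_and_subset (U := ⊤) (x := u x) trivial
    haveI : ∀ x : F, IsAffine (O x : Scheme.{u}) := hO
    let k : ∐ (fun x : F => (O x : Scheme.{u})) ⟶ U.left := Sigma.desc fun x => (O x).ι
    haveI : Etale k := IsZariskiLocalAtSource.sigmaDesc (P := @Etale) fun i => inferInstance
    let E : Over S := Over.mk (k ≫ U.hom)
    let q : E ⟶ U := Over.homMk k rfl
    refine ⟨E, (yon S).map q ≫ a, inferInstanceAs (IsAffine (∐ _)),
      repWith_comp ((repWith_yon_map_iff (P := (@Etale : MorphismProperty Scheme.{u})) q).2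
        (inferInstanceAs (Etale k))) ha, fun x hx => ?_, Or.inr hsep⟩
    refine ⟨Sigma.ι (fun x : F => (O x : Scheme.{u})) ⟨φ ⟨x, hx⟩⟩ ⟨u ⟨φ ⟨x, hx⟩⟩, huO ⟨φ ⟨x, hx⟩⟩⟩, ?_⟩
    rw [ofPt_yon_comp]
    refine Eq.trans ?_ ((hu ⟨φ ⟨x, hx⟩⟩).trans (congrArg Subtype.val (φ.symm_apply_apply ⟨x, hx⟩)))
    congr 1
    change (Sigma.ι (fun x : F => (O x : Scheme.{u})) ⟨φ ⟨x, hx⟩⟩ ≫ k) ⟨u ⟨φ ⟨x, hx⟩⟩, huO ⟨φ ⟨x, hx⟩⟩⟩ = _
    rw [Sigma.ι_desc]
    rfl

/-- Over an open set where a morphism is finite, so are its self products. -/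
theorem finite_preimage_pullback {A B P : Scheme.{u}} {e : A ⟶ B} {O : B.Opens} (hfin : IsFinite (e ∣_ O))
    {fst snd : P ⟶ A} (sq : IsPullback fst snd e e) {w : A} (hw : e w ∈ O) : (snd.base ⁻¹' {w}).Finite := by
  let W := e ⁻¹ᵁ O
  have s1 := (isPullback_morphismRestrict snd W).flip.paste_horiz sq
  have s0 := (isPullback_morphismRestrict e O).flip
  have hwt : W.ι ≫ e = (e ∣_ O) ≫ O.ι := (morphismRestrict_ι e O).symm
  let a := s0.lift ((snd ⁻¹ᵁ W).ι ≫ fst) ((snd ∣_ W) ≫ (e ∣_ O)) (by rw [s1.w, hwt, Category.assoc])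
  have s2 : IsPullback a (snd ∣_ W) (e ∣_ O) (e ∣_ O) := by
    refine IsPullback.of_right ?_ (s0.lift_snd _ _ _) s0
    rw [s0.lift_fst, ← hwt]
    exact s1
  haveI : IsFinite (e ∣_ O) := hfin
  haveI : IsFinite (snd ∣_ W) := MorphismProperty.of_isPullback (P := @IsFinite) s2 hfin
  refine Set.Finite.subset (((snd ∣_ W).finite_preimage_singleton ⟨w, hw⟩).image (snd ⁻¹ᵁ W).ι) fun z hz => ?_
  exact ⟨⟨z, show snd z ∈ W by rw [show snd z = w from hz]; exact hw⟩,
    Subtype.ext ((morphismRestrict_base_coe snd _ _).trans hz), rfl⟩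

theorem exists_affine_finite {X : Sp S} (hX : IsAlgSpace X) {T : Over S} [IsAffine T.left]
    {g : X ⟶ (yon S).obj T} (hg : LocP @LocallyOfFiniteType g) (v : T.left)
    (hv : ∀ z : T.left, ringKrullDim (T.left.presheaf.stalk z) = 0 ↔ z = v)
    (hX0 : {x : Points X | HasAt (fun U u => ringKrullDim ↥(U.presheaf.stalk u) = 0) X x}.Finite)
    (hpre : ∀ x, HasAt (fun U u => ringKrullDim ↥(U.presheaf.stalk u) = 0) X x ↔
      Points.map g x = Points.schemeHomeo T v)
    (hqs : IsQuasiCompactMor g ∨ IsSeparatedMor g) :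
    ∃ (T' : Over S) (j : T' ⟶ T), IsOpenImmersion j.left ∧ v ∈ Set.range j.left ∧
      IsFiniteMor (pullback.snd g ((yon S).map j)) := by
  classical
  have hT := IsAlgSpace.yon_obj (S := S) T
  have hvmax : closure {v} ∈ irreducibleComponents (T.left : Type u) :=
    Groth.Agent.S2081.mem_components_of_forall_specializes fun z hz =>
      eq_of_specializes_of_stalkDim_zero ((hv v).2 rfl).le hz
  obtain ⟨E, p, hE, hp, hcov, hsurj⟩ := exists_chart_codimZero hX hX0 hqs
  obtain ⟨e, he0⟩ := (yon S).map_surjective (p ≫ g)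
  have he : p ≫ g = (yon S).map e := he0.symm
  have hid : RepWith @Etale ((yon S).map (𝟙 T)) :=
    (repWith_yon_map_iff (P := (@Etale : MorphismProperty Scheme.{u})) (𝟙 T)).2 (inferInstanceAs (Etale (𝟙 T.left)))
  have hcomm : p ≫ g = (yon S).map e ≫ (yon S).map (𝟙 T) := by
    rw [CategoryTheory.Functor.map_id, Category.comp_id, he]
  haveI : LocallyOfFiniteType e.left := hg p _ e hp hid hcomm
  have hptT : HasAt (fun U u => ringKrullDim ↥(U.presheaf.stalk u) = 0) ((yon S).obj T) (Points.schemeHomeo T v) := by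
    refine ⟨T, (yon S).map (𝟙 T), v, hid, ?_, (hv v).2 rfl⟩
    have h1 := map_ofPt_yon (g := 𝟙 ((yon S).obj T)) (p := (yon S).map (𝟙 T)) (e := 𝟙 T) (Category.comp_id _) v
    rw [Points.map_id] at h1
    exact h1
  -- maximal points of charts lie over `v`
  have hgen : ∀ {D : Over S} (a : (yon S).obj D ⟶ X) (d : D ⟶ T), RepWith @Etale a → a ≫ g = (yon S).map d →
      ∀ w : D.left, ringKrullDim (D.left.presheaf.stalk w) = 0 → d.left w = v := fun {D} a d ha hd w hw => by
    have h1 := (hpre _).1 ⟨D, a, w, ha, rfl, hw⟩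
    rw [map_ofPt_yon hd] at h1
    exact (Points.schemeHomeo T).injective h1
  have hfib : (e.left.base ⁻¹' {v}).Finite := by
    refine finite_preimage_of_isOpen_singleton e.left v fun w hw => ?_
    refine (fibreDimAt_eq_zero_iff e.left w).1 ((hasAtMor_iff (Q := fun _ _ h u => FlatMor.fibreDimAt h u = 0) (etInv_fibreDim fun t => t = 0) hp hid hcomm w).1 ?_)
    refine (codimZero_iff_qf hX hT hg (Points.schemeHomeo T v) hptT).1.1 (fun x hx => (hpre x).2 hx) _ ?_
    rw [map_ofPt_yon he]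
    exact congrArg _ hw
  haveI := hE
  obtain ⟨O₁, -, hv₁, hfin₁⟩ := (Groth.Agent.S2080.result e.left v hvmax).mp hfib
  -- the relation
  obtain ⟨R, r₁, r₂, sq⟩ := exists_isPullback_yon p p hp.rep
  have hr₁₂ : r₁ ≫ e = r₂ ≫ e := (yon S).map_injective (by
    rw [Functor.map_comp, Functor.map_comp, ← he, ← Category.assoc, ← Category.assoc, sq.w])
  let l : R ⟶ pullback e e := pullback.lift r₁ r₂ hr₁₂
  haveI : Mono l := ⟨fun {Z} a b h => by
    have h1 := congrArg (· ≫ pullback.fst e e) h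
    have h2 := congrArg (· ≫ pullback.snd e e) h
    simp only [l, Category.assoc, pullback.lift_fst, pullback.lift_snd] at h1 h2
    exact (yon S).map_injective (sq.hom_ext (by rw [← Functor.map_comp, h1, Functor.map_comp])
      (by rw [← Functor.map_comp, h2, Functor.map_comp]))⟩
  haveI : Mono l.left := (Over.forget S).map_mono l
  have sqL := ((IsPullback.of_hasPullback e e).map (Over.forget S))
  let q₂ : (pullback e e).left ⟶ E.left := (pullback.snd e e).left
  haveI : QuasiCompact q₂ := MorphismProperty.of_isPullback (P := @QuasiCompact) sqL (inferInstance : QuasiCompact e.left)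
  haveI : IsSeparated q₂ := MorphismProperty.of_isPullback (P := @IsSeparated) sqL (inferInstance : IsSeparated e.left)
  haveI : LocallyOfFiniteType q₂ := MorphismProperty.of_isPullback (P := @LocallyOfFiniteType) sqL ‹LocallyOfFiniteType e.left›
  have hl₂ : l.left ≫ q₂ = r₂.left := by rw [← Over.comp_left, pullback.lift_snd]
  haveI : IsSeparated r₂.left := by rw [← hl₂]; infer_instance
  haveI : Etale r₂.left := (repWith_yon_map_iff (P := (@Etale : MorphismProperty Scheme.{u})) r₂).1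
    (repWith_of_isPullback sq hp)
  have hfibR : ((r₂ ≫ e).left.base ⁻¹' {v}).Finite := by
    rw [Over.comp_left, Scheme.Hom.comp_base, TopCat.coe_comp, Set.preimage_comp]
    refine hfib.preimage' fun w hw => ?_
    rw [← hl₂, Scheme.Hom.comp_base, TopCat.coe_comp, Set.preimage_comp]
    refine Set.Finite.preimage (fun a _ b _ h => l.left.injective h) ?_
    exact finite_preimage_pullback hfin₁ sqL (show e.left w ∈ O₁ by rw [show e.left w = v from hw]; exact hv₁)
  haveI : Finite ↥((r₂ ≫ e).left.base ⁻¹' {v}) := hfibR.to_subtype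
  choose A hA hzA _ using fun z : ↥((r₂ ≫ e).left.base ⁻¹' {v}) =>
    exists_isAffineOpen_mem_and_subset (U := ⊤) (x := z.1) trivial
  let R' : R.left.Opens := ⨆ z, A z
  haveI : CompactSpace (R' : Scheme.{u}) := by
    refine isCompact_iff_compactSpace.1 (?_ : IsCompact (R' : Set R.left))
    rw [TopologicalSpace.Opens.coe_iSup]
    exact isCompact_iUnion fun z => (hA z).isCompact
  let h' : (R' : Scheme.{u}) ⟶ T.left := R'.ι ≫ (r₂ ≫ e).left
  haveI : IsSeparated (r₂ ≫ e).left := by rw [Over.comp_left]; infer_instance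
  haveI : LocallyOfFiniteType (r₂ ≫ e).left := by rw [Over.comp_left]; infer_instance
  haveI : QuasiCompact h' := by
    exact (HasAffineProperty.iff_of_isAffine (P := @QuasiCompact)).2 ‹CompactSpace (R' : Scheme.{u})›
  have hfibR' : (h'.base ⁻¹' {v}).Finite := by
    rw [Scheme.Hom.comp_base, TopCat.coe_comp, Set.preimage_comp]
    exact hfibR.preimage R'.ι.isOpenEmbedding.injective.injOn
  obtain ⟨O₂, -, hv₂, hfin₂⟩ := (Groth.Agent.S2080.result h' v hvmax).mp hfibR'
  obtain ⟨O, hO, hvO, hOle⟩ := exists_isAffineOpen_mem_and_subset (U := O₁ ⊓ O₂) (x := v) ⟨hv₁, hv₂⟩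
  have hle₁ : O ≤ O₁ := fun z hz => (hOle hz).1
  have hle₂ : O ≤ O₂ := fun z hz => (hOle hz).2
  haveI : IsFinite (e.left ∣_ O) := restrict_le e.left hle₁ hfin₁
  haveI : IsFinite (h' ∣_ O) := restrict_le h' hle₂ hfin₂
  -- all of the relation over `O` is in `R'`
  have hall : ∀ z : R.left, (r₂ ≫ e).left z ∈ O → z ∈ R' := fun z hz => by
    obtain ⟨ξ, hξ, hmax⟩ := exists_maximal_generization z
    have hξv : (r₂ ≫ e).left ξ = v :=
      hgen ((yon S).map r₂ ≫ p) (r₂ ≫ e)
        (repWith_comp ((repWith_yon_map_iff (P := (@Etale : MorphismProperty Scheme.{u})) r₂).2 ‹Etale r₂.left›) hp)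
        (by rw [Category.assoc, he, ← Functor.map_comp]) ξ (stalkDim_eq_zero_of_maximal ξ hmax)
    have hξR : ξ ∈ R' := TopologicalSpace.Opens.mem_iSup.2 ⟨⟨ξ, hξv⟩, hzA ⟨ξ, hξv⟩⟩
    let W := (r₂ ≫ e).left ⁻¹ᵁ O
    let i : ((h' ⁻¹ᵁ O : (R' : Scheme.{u}).Opens) : Scheme.{u}) ⟶ (W : Scheme.{u}) :=
      IsOpenImmersion.lift W.ι ((h' ⁻¹ᵁ O).ι ≫ R'.ι) (by
        rintro _ ⟨t, rfl⟩
        rw [Scheme.Opens.range_ι]
        exact t.2)
    have hi : i ≫ W.ι = (h' ⁻¹ᵁ O).ι ≫ R'.ι := IsOpenImmersion.lift_fac _ _ _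
    haveI : IsFinite (i ≫ ((r₂ ≫ e).left ∣_ O)) := by
      rw [show i ≫ ((r₂ ≫ e).left ∣_ O) = h' ∣_ O from by
        rw [← cancel_mono O.ι, Category.assoc, morphismRestrict_ι, ← Category.assoc, hi, morphismRestrict_ι,
          Category.assoc]]
      infer_instance
    haveI : IsFinite i := IsFinite.of_comp i ((r₂ ≫ e).left ∣_ O)
    have hξO : (r₂ ≫ e).left ξ ∈ O := by rw [hξv]; exact hvO
    have hξi : (⟨ξ, hξO⟩ : (W : Scheme.{u})) ∈ Set.range i := by
      refine ⟨⟨⟨ξ, hξR⟩, hξO⟩, W.ι.isOpenEmbedding.injective ?_⟩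
      change (i ≫ W.ι) _ = _
      rw [hi]
      rfl
    have hs : (⟨ξ, hξO⟩ : (W : Scheme.{u})) ⤳ ⟨z, hz⟩ := (subtype_specializes_iff _ _).2 hξ
    obtain ⟨t, ht⟩ := hs.mem_closed i.isClosedMap.isClosed_range hξi
    have := congrArg W.ι ht
    change (i ≫ W.ι) _ = _ at this
    rw [hi] at this
    exact (congrArg (· ∈ R') this).mp ((h' ⁻¹ᵁ O).ι t).2
  -- the shrunk space
  let T' : Over S := Over.mk (O.ι ≫ T.hom)
  haveI : IsAffine T'.left := hO
  let j : T' ⟶ T := Over.homMk O.ι rfl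
  have hT' := IsAlgSpace.yon_obj (S := S) T'
  have sqT := IsPullback.of_hasPullback g ((yon S).map j)
  have hX₂ := isAlgSpace_pullback hX hT' hT g ((yon S).map j)
  obtain ⟨E₂, jE, e₂, sqE₂⟩ : ∃ (E₂ : Over S) (jE : E₂ ⟶ E) (e₂ : E₂ ⟶ T'), IsPullback jE e₂ e j :=
    ⟨_, _, _, IsPullback.of_hasPullback e j⟩
  have sqY := sqE₂.map (yon S)
  let p₂ : (yon S).obj E₂ ⟶ pullback g ((yon S).map j) :=
    sqT.lift ((yon S).map jE ≫ p) ((yon S).map e₂) (by rw [Category.assoc, he, sqY.w])
  have hpe₂ : p₂ ≫ pullback.snd g ((yon S).map j) = (yon S).map e₂ := sqT.lift_snd _ _ _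
  have sqP₂ : IsPullback ((yon S).map jE) p₂ p (pullback.fst g ((yon S).map j)) := by
    refine IsPullback.of_bot ?_ (sqT.lift_fst _ _ _).symm sqT
    rw [he, hpe₂]
    exact sqY
  have hp₂ := repWith_of_isPullback sqP₂ hp
  have hfin : IsFinite e₂.left := isFinite_of_square ‹IsFinite (e.left ∣_ O)› (sqE₂.map (Over.forget S))
  have hfe : IsUnivClosedMor ((yon S).map e₂) :=
    (isUnivClosedMor_iff_repWith (IsAlgSpace.yon_obj E₂) hT' ((repWith_yon_map_iff (P := @IsFinite) e₂).2 hfin).rep).1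
      ((repWith_yon_map_iff (P := @UniversallyClosed) e₂).2 inferInstance)
  have hmap : Function.Surjective (Points.map p₂) := by
    rcases hsurj with hps | hsep
    · exact map_surjective_of_repWith (repWith_of_isPullback sqP₂ hps)
    have huc : IsUnivClosedMor p₂ := univClosed_of_comp (IsAlgSpace.yon_obj E₂) hX₂ hT'
      (repWith_diagonal_of_isPullback sqT hsep) (by rw [hpe₂]; exact hfe)
    have hcl := (isClosedMap_of_isUnivClosedMor hX₂ huc).isClosed_range
    intro z
    obtain ⟨D, a, ha, has⟩ := hX₂.atlas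
    obtain ⟨w, rfl⟩ := surjective_ofPt has z
    obtain ⟨ξ, hξ, hmax⟩ := exists_maximal_generization w
    refine (hξ.map (Points.continuous_ofPt a)).mem_closed hcl ?_
    have hfst : RepWith @Etale (pullback.fst g ((yon S).map j)) :=
      repWith_of_isPullback sqT.flip ((repWith_yon_map_iff (P := (@Etale : MorphismProperty Scheme.{u})) j).2
        (inferInstanceAs (Etale O.ι)))
    have hx : HasAt (fun U u => ringKrullDim ↥(U.presheaf.stalk u) = 0) X
        (Points.map (pullback.fst g ((yon S).map j)) (Points.ofPt a ξ)) := by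
      rw [Points.map_ofPt]
      exact ⟨D, _, ξ, repWith_comp ha hfst, rfl, stalkDim_eq_zero_of_maximal ξ hmax⟩
    rw [range_map_of_isPullback sqP₂]
    obtain ⟨t, ht⟩ := hcov _ hx
    exact ⟨Points.schemeHomeo E t, (congrFun (ofPt_comp_ofScheme p) t).trans ht⟩
  have hps₂ : RepWith @Surjective p₂ := (repWith_surjective_iff hp₂.rep).2 hmap
  obtain ⟨R₂, s₁, s₂, sqR₂⟩ := exists_isPullback_yon p₂ p₂ hp₂.rep
  obtain ⟨s, hs⟩ := (yon S).map_surjective (sq.lift ((yon S).map s₁ ≫ (yon S).map jE)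
    ((yon S).map s₂ ≫ (yon S).map jE) (by
      rw [Category.assoc, Category.assoc, sqP₂.w, ← Category.assoc, sqR₂.w, Category.assoc]))
  have sqR : IsPullback ((yon S).map s) ((yon S).map s₂) ((yon S).map r₂) ((yon S).map jE) := by
    refine IsPullback.of_right ?_ (by rw [hs, sq.lift_snd]) sq
    rw [hs, sq.lift_fst]
    have h := sqR₂.paste_horiz sqP₂
    rw [← sqP₂.w] at h
    exact h
  have hfinR : IsFinite ((r₂ ≫ e).left ∣_ O) := by
    let W := (r₂ ≫ e).left ⁻¹ᵁ O
    let i : ((h' ⁻¹ᵁ O : (R' : Scheme.{u}).Opens) : Scheme.{u}) ⟶ (W : Scheme.{u}) :=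
      IsOpenImmersion.lift W.ι ((h' ⁻¹ᵁ O).ι ≫ R'.ι) (by
        rintro _ ⟨t, rfl⟩
        rw [Scheme.Opens.range_ι]
        exact t.2)
    have hi : i ≫ W.ι = (h' ⁻¹ᵁ O).ι ≫ R'.ι := IsOpenImmersion.lift_fac _ _ _
    haveI : IsOpenImmersion (i ≫ W.ι) := by rw [hi]; infer_instance
    haveI : IsOpenImmersion i := IsOpenImmersion.of_comp i W.ι
    haveI : Surjective i := ⟨fun z => ⟨⟨⟨z.1, hall z.1 z.2⟩, z.2⟩, W.ι.isOpenEmbedding.injective (by
      change (i ≫ W.ι) _ = _
      rw [hi]; rfl)⟩⟩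
    haveI : IsIso i := (isIso_iff_isOpenImmersion_and_surjective _).mpr ⟨inferInstance, inferInstance⟩

    rw [← MorphismProperty.cancel_left_of_respectsIso (P := (@IsFinite : MorphismProperty Scheme.{u})) i,
      show i ≫ ((r₂ ≫ e).left ∣_ O) = h' ∣_ O from by
        rw [← cancel_mono O.ι, Category.assoc, morphismRestrict_ι, ← Category.assoc, hi, morphismRestrict_ι,
          Category.assoc]]
    infer_instance
  have hfin' : IsFinite (s₁ ≫ e₂).left := by
    have : s₁ ≫ e₂ = s₂ ≫ e₂ := (yon S).map_injective (by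
      rw [Functor.map_comp, Functor.map_comp, ← hpe₂, ← Category.assoc, ← Category.assoc, sqR₂.w])
    rw [this]
    exact isFinite_of_square hfinR
      (((IsPullback.of_map (yon S) (by
        apply (yon S).map_injective; rw [Functor.map_comp, Functor.map_comp, sqR.w]) sqR).paste_vert sqE₂).map (Over.forget S))
  haveI : CompactSpace E₂.left := by
    haveI := hfin
    exact QuasiCompact.compactSpace_of_compactSpace e₂.left
  have hqc₂ : IsQuasiCompactMor (pullback.snd g ((yon S).map j)) := by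
    rcases hqs with hqc | hsep
    · exact isQuasiCompactMor_of_isPullback sqT hqc
    refine (isQuasiCompactMor_iff_affine hX₂ hT').2 fun Z hZ c P fst snd sq' => ?_
    have sqA := IsPullback.of_hasPullback p₂ fst
    have hP := isAlgSpace_of_isPullback hX₂ (IsAlgSpace.yon_obj Z) hT' sq'
    have big : IsPullback (pullback.fst p₂ fst) (pullback.snd p₂ fst ≫ snd) ((yon S).map e₂) c := by
      rw [← hpe₂]; exact sqA.paste_vert sq'
    exact isQuasiCompactSp_of_surjective hP (map_surjective_of_isPullback sqA hmap)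
      (isQuasiCompactMor_of_repWith (IsAlgSpace.yon_obj E₂) hT'
        ((repWith_yon_map_iff (P := @QuasiCompact) e₂).2 (by haveI := hfin; infer_instance))
        (IsAlgSpace.yon_obj Z) (isQuasiCompactSp_yon Z) c _ _ big)
  exact ⟨T', j, inferInstanceAs (IsOpenImmersion O.ι), ⟨⟨v, hvO⟩, rfl⟩,
    isFiniteMor_of_finite_chart hX₂ hp₂ hps₂ hqc₂ hpe₂ sqR₂ hfin hfin'⟩

end QfNhdLib
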