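import Groth.Agent.AlgSpLib.FiniteNhd
import Groth.Agent.AlgSpLib.Noeth
import Groth.Agent.AlgSpLib.FpqcMore

/-!
# Finiteness of a space with a finite chart and finite relation
-/

set_option autoImplicit false
universe u

open CategoryTheory CategoryTheory.Limits AlgebraicGeometry Topology
open AlgSp

namespace QfNhdLib

open AlgSpLib

variable {S : Scheme.{u}}

/-- A space over an affine scheme with a finite etale chart and a finite relation is finite. -/
theorem isFiniteMor_of_finite_chart {X : Sp S} (hX : IsAlgSpace X) {T E R : Over S} {g : X ⟶ (yon S).obj T}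
    {p : (yon S).obj E ⟶ X} (hp : RepWith @Etale p) (hps : RepWith @Surjective p) (hqc : IsQuasiCompactMor g)
    {e : E ⟶ T} (hpe : p ≫ g = (yon S).map e) {r₁ r₂ : R ⟶ E}
    (sq : IsPullback ((yon S).map r₁) ((yon S).map r₂) p p) (he : IsFinite e.left)
    (hr : IsFinite (r₁ ≫ e).left) : IsFiniteMor g := by
  have hT := IsAlgSpace.yon_obj (S := S) T
  have hE := IsAlgSpace.yon_obj (S := S) E
  have hgg := isAlgSpace_pullback hX hX hT g g
  have hr₁₂ : r₁ ≫ e = r₂ ≫ e := (yon S).map_injective (by
    rw [Functor.map_comp, Functor.map_comp, ← hpe, ← Category.assoc, ← Category.assoc, sq.w])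
  let q₁ : pullback e e ⟶ E := pullback.fst e e
  let q₂ : pullback e e ⟶ E := pullback.snd e e
  have sqE : IsPullback ((yon S).map q₁) ((yon S).map q₂) (p ≫ g) (p ≫ g) := by
    rw [hpe]
    exact (IsPullback.of_hasPullback e e).map (yon S)
  let l : R ⟶ pullback e e := pullback.lift r₁ r₂ hr₁₂
  let d : pullback p p ⟶ pullback (p ≫ g) (p ≫ g) :=
    pullback.map p p (p ≫ g) (p ≫ g) (𝟙 _) (𝟙 _) g (Category.id_comp _).symm (Category.id_comp _).symm
  have hd : d = sq.isoPullback.inv ≫ (yon S).map l ≫ sqE.isoPullback.hom := by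
    rw [Iso.eq_inv_comp]
    apply pullback.hom_ext
    · simp only [d, Category.assoc, pullback.lift_fst, IsPullback.isoPullback_hom_fst_assoc,
        IsPullback.isoPullback_hom_fst, Category.comp_id, ← Functor.map_comp]
      exact congrArg (yon S).map (pullback.lift_fst _ _ _).symm
    · simp only [d, Category.assoc, pullback.lift_snd, IsPullback.isoPullback_hom_snd_assoc,
        IsPullback.isoPullback_hom_snd, Category.comp_id, ← Functor.map_comp]
      exact congrArg (yon S).map (pullback.lift_snd _ _ _).symm
  have sqd := pullback_map_diagonal_isPullback p p g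
  haveI : Mono (pullback.diagonal g) := inferInstance
  haveI : Mono d := MorphismProperty.of_isPullback (P := MorphismProperty.monomorphisms (Sp S)) sqd ‹_›
  haveI : Mono ((yon S).map l) := by
    have : (yon S).map l = sq.isoPullback.hom ≫ d ≫ sqE.isoPullback.inv := by
      rw [hd]; simp
    rw [this]; infer_instance
  haveI : Mono l.left := mono_left_of_mono
  haveI : IsFinite (l.left ≫ ((q₁ ≫ e).left)) := by
    rw [← Over.comp_left, ← Category.assoc, show l ≫ q₁ = r₁ from pullback.lift_fst _ _ _]
    exact hr
  haveI : IsFinite e.left := he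
  haveI : IsSeparated ((q₁ ≫ e).left) := by
    have h1 : RepWith @IsSeparated ((yon S).map q₁) := by
      refine repWith_of_isPullback sqE.flip ?_
      rw [hpe]
      exact (repWith_yon_map_iff (P := @IsSeparated) e).2 inferInstance
    haveI : IsSeparated q₁.left := (repWith_yon_map_iff (P := @IsSeparated) q₁).1 h1
    rw [Over.comp_left]
    infer_instance
  haveI : IsFinite l.left := IsFinite.of_comp l.left (q₁ ≫ e).left
  have hdc : RepWith @IsFinite d := by
    rw [hd, MorphismProperty.cancel_left_of_respectsIso (RepWith @IsFinite),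
      MorphismProperty.cancel_right_of_respectsIso (RepWith @IsFinite)]
    exact (repWith_yon_map_iff _ l).2 inferInstance
  have hm : ∀ (P : MorphismProperty Scheme.{u}) [P.IsStableUnderBaseChange] [P.IsStableUnderComposition],
      RepWith P p → RepWith P (pullback.map (p ≫ g) (p ≫ g) g g p p (𝟙 _) (Category.comp_id _) (Category.comp_id _)) :=
    fun P _ _ h => MorphismProperty.pullbackMap (P := RepWith (S := S) P) h h rfl rfl
  have hΔ : RepWith @IsFinite (pullback.diagonal g) :=
    repWith_of_etale_cover (fun _ _ f (_ : IsFinite f) => (inferInstance : IsAffineHom f))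
      (hm _ hp) (hm _ hps) sqd hdc
  have hsep : IsSeparatedMor g := ⟨hΔ.rep, fun T' W a fst snd sq' => by
    haveI : IsFinite ((Over.forget S).map snd) := hΔ.property a fst snd sq'
    haveI : Mono ((Over.forget S).map snd) := (repWith_mono_of_mono hΔ.rep).property a fst snd sq'
    exact (IsClosedImmersion.iff_isFinite_and_mono _).2 ⟨inferInstance, inferInstance⟩⟩
  have hlqf : LocP (@LocallyQuasiFinite ⊓ @LocallyOfFiniteType) g :=
    locP_of_chart (h₀ := e) (b₀ := (yon S).map (𝟙 T)) hp hps
      ((repWith_yon_map_iff (P := (@Etale : MorphismProperty Scheme.{u})) (𝟙 T)).2 (inferInstanceAs (Etale (𝟙 T.left))))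
      (by rw [CategoryTheory.Functor.map_id, Category.comp_id]; exact hpe)
      ⟨(inferInstance : LocallyQuasiFinite e.left), (inferInstance : LocallyOfFiniteType e.left)⟩
  have huc : IsUnivClosedMor g := isUnivClosedMor_of_surjective hE hX hT (map_surjective_of_repWith hps) (by
    rw [hpe]
    exact (isUnivClosedMor_iff_repWith hE hT ((repWith_yon_map_iff (P := @IsFinite) e).2 he).rep).1
      ((repWith_yon_map_iff (P := @UniversallyClosed) e).2 inferInstance))
  exact isFiniteMor_of_proper_lqf hX hT
    ⟨hsep, ⟨locP_mono (fun _ _ _ h => h.2) hlqf, hqc⟩, huc⟩ hlqf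

end QfNhdLib
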